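import Mathlib
import Cfsg.Agent.Helper15.PSp.Defs2
import Cfsg.Agent.Helper1.SLNP.MainA
import Cfsg.Agent.Helper62.StCG2

/-!
# S2292 W-part piece (WAF) -- see `tools/helper1_pspw/README.md` and board WANTED of helper1.
-/

set_option autoImplicit false

namespace Cfsg.Agent.Helper15.PSp

open Matrix Cfsg.Agent.Helper96.StC Cfsg.Agent.Helper96.StN Cfsg.Agent.Helper29.StCM
  Cfsg.Agent.Helper96.StemSLTwo Cfsg.Agent.Helper96.StPres Cfsg.Agent.Helper9.Sp4P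
  Cfsg.Agent.Helper1.SL3P Cfsg.Agent.Helper1.SLNP

universe u v

variable {K : Type u} [Field K] {D : Type v} [Group D] {m : ℕ}

/-- `π₀⁻¹ π` fixes the point `x` if `π₀` and `π` agree at `x` -/
theorem WAF_fix (π₀ π : Alt m) (x y : Fin (m + 4)) (h₀ : π₀.1 x = y) (h : π.1 x = y) :
    (π₀⁻¹ * π).1 x = x := by
  have e : (π₀⁻¹ * π).1 = (π₀.1)⁻¹ * π.1 := rfl
  rw [e, Equiv.Perm.mul_apply, h, ← h₀]
  exact Equiv.symm_apply_apply _ _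

/-- conjugation by `ρ π` agrees with conjugation by `ρ π₀` on elements commuting with `ρ (π₀⁻¹ π)` -/
theorem WAF_conj (ρ : Alt m →* D) (π₀ π : Alt m) (x : D) (hc : Commute (ρ (π₀⁻¹ * π)) x) :
    ρ π₀ * x * (ρ π₀)⁻¹ = ρ π * x * (ρ π)⁻¹ := by
  have e : ρ π = ρ π₀ * ρ (π₀⁻¹ * π) := by
    rw [← map_mul, mul_inv_cancel_left]
  have hc' : ρ (π₀⁻¹ * π) * x = x * ρ (π₀⁻¹ * π) := hc
  rw [e, _root_.mul_inv_rev, mul_assoc (ρ π₀) (ρ (π₀⁻¹ * π)) x, hc']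
  group

theorem AF_eq {a4 : Sp4 K →* D} {ρ : Alt m →* D}
    (hpk : ∀ i j : Fin (m + 4), i ≠ j →
      (pick m i j).1 (p0 m) = i ∧ (pick m i j).1 (p1 m) = j)
    (hst : ∀ π : Alt m, π.1 (p0 m) = p0 m → π.1 (p1 m) = p1 m → ∀ g : Sp4 K,
      Commute (ρ π) (a4 g))
    (i j : Fin (m + 4)) (hij : i ≠ j) (π : Alt m) (h0 : π.1 (p0 m) = i) (h1 : π.1 (p1 m) = j)
    (g : Sp4 K) : AF a4 ρ i j g = ρ π * a4 g * (ρ π)⁻¹ := by
  rw [AF_apply]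
  obtain ⟨hp0, hp1⟩ := hpk i j hij
  exact WAF_conj ρ (pick m i j) π (a4 g)
    (hst _ (WAF_fix _ _ _ _ hp0 h0) (WAF_fix _ _ _ _ hp1 h1) g)

end Cfsg.Agent.Helper15.PSp
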