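import Mathlib
import Cfsg.Agent.Helper15.PSp.Defs2
import Cfsg.Agent.Helper1.SLNP.MainA
import Cfsg.Agent.Helper62.StCG2

/-!
# S2292 W-part piece (WC2) -- see `tools/helper1_pspw/README.md` and board WANTED of helper1.
-/

set_option autoImplicit false

namespace Cfsg.Agent.Helper15.PSp

open Matrix Cfsg.Agent.Helper96.StC Cfsg.Agent.Helper96.StN Cfsg.Agent.Helper29.StCM
  Cfsg.Agent.Helper96.StemSLTwo Cfsg.Agent.Helper96.StPres Cfsg.Agent.Helper9.Sp4P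
  Cfsg.Agent.Helper1.SL3P Cfsg.Agent.Helper1.SLNP

universe u v

variable {K : Type u} [Field K] {D : Type v} [Group D] {m : ℕ}

theorem conj_c_i1 {a4 : Sp4 K →* D} {ρ : Alt m →* D}
    (hv : (c012 m).1 (p1 m) = p2 m ∧ (sg m).1 (p0 m) = p1 m ∧ (pi0 m).1 (p0 m) = p2 m)
    (hG : Glue4 a4 ρ) (g : SL2 K) :
    ρ (c012 m) * a4 (nS K * i0 K g * (nS K)⁻¹) * (ρ (c012 m))⁻¹ =
      ρ (pi0 m) * a4 (i0 K g) * (ρ (pi0 m))⁻¹ := by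
  obtain ⟨hc1, hs0, hq0⟩ := hv
  set τ' : Alt m := (pi0 m)⁻¹ * (c012 m * sg m) with hτ'
  have hfix : τ'.1 (p0 m) = p0 m := by
    change ((pi0 m).1)⁻¹ ((c012 m).1 ((sg m).1 (p0 m))) = p0 m
    rw [hs0, hc1, Equiv.Perm.inv_eq_iff_eq, hq0]
  have hcomm := (hG.lg _ hfix g).eq
  have e : ρ (c012 m) * ρ (sg m) = ρ (pi0 m) * ρ τ' := by
    rw [← map_mul, ← map_mul, hτ', mul_inv_cancel_left]
  rw [← hG.fl]
  calc ρ (c012 m) * (ρ (sg m) * a4 (i0 K g) * (ρ (sg m))⁻¹) * (ρ (c012 m))⁻¹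
      = (ρ (c012 m) * ρ (sg m)) * a4 (i0 K g) * (ρ (c012 m) * ρ (sg m))⁻¹ := by group
    _ = ρ (pi0 m) * (ρ τ' * a4 (i0 K g)) * (ρ τ')⁻¹ * (ρ (pi0 m))⁻¹ := by rw [e]; group
    _ = ρ (pi0 m) * (a4 (i0 K g) * ρ τ') * (ρ τ')⁻¹ * (ρ (pi0 m))⁻¹ := by rw [hcomm]
    _ = ρ (pi0 m) * a4 (i0 K g) * (ρ (pi0 m))⁻¹ := by group

end Cfsg.Agent.Helper15.PSp
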