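import Mathlib
import Cfsg.Agent.Helper15.PSp.Defs2
import Cfsg.Agent.Helper1.SLNP.MainA
import Cfsg.Agent.Helper62.StCG2

/-!
# S2292 W-part piece (WCB) -- see `tools/helper1_pspw/README.md` and board WANTED of helper1.
-/

set_option autoImplicit false

namespace Cfsg.Agent.Helper15.PSp

open Matrix Cfsg.Agent.Helper96.StC Cfsg.Agent.Helper96.StN Cfsg.Agent.Helper29.StCM
  Cfsg.Agent.Helper96.StemSLTwo Cfsg.Agent.Helper96.StPres Cfsg.Agent.Helper9.Sp4P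
  Cfsg.Agent.Helper1.SL3P Cfsg.Agent.Helper1.SLNP

universe u v

variable {K : Type u} [Field K] {D : Type v} [Group D] {m : ℕ}

theorem crossB_of_cross2 {a4 : Sp4 K →* D} {ρ : Alt m →* D} (z : Kˣ)
    (hc3 : c012 m * c012 m * c012 m = 1)
    (hid4 : Commute (nS K * i0 K (dMat (z : K) z.ne_zero) * (nS K)⁻¹)
        (eS4 K (dMat (z : K) z.ne_zero)) ∧
      (nS K * i0 K (dMat (z : K) z.ne_zero) * (nS K)⁻¹) * eS4 K (uMat K 1) *
        (nS K * i0 K (dMat (z : K) z.ne_zero) * (nS K)⁻¹)⁻¹ = eS4 K (uMat K ((z : K)⁻¹)) ∧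
      (nS K * i0 K (dMat (z : K) z.ne_zero) * (nS K)⁻¹) * eS4 K (WU (1 : K)) *
        (nS K * i0 K (dMat (z : K) z.ne_zero) * (nS K)⁻¹)⁻¹ =
          (eS4 K (dMat (z : K) z.ne_zero))⁻¹ * eS4 K (WU (1 : K)))
    (hH1 : ∀ g : Sp4 K,
      (ρ (c012 m) * he (a4.comp (eS4 K)) z * (ρ (c012 m))⁻¹) * a4 g *
        (ρ (c012 m) * he (a4.comp (eS4 K)) z * (ρ (c012 m))⁻¹)⁻¹ =
        a4 ((nS K * i0 K (dMat (z : K) z.ne_zero) * (nS K)⁻¹) * g *
          (nS K * i0 K (dMat (z : K) z.ne_zero) * (nS K)⁻¹)⁻¹))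
    (hC : Cross2 (a4.comp (eS4 K)) (ρ (c012 m))) :
    CrossB (a4.comp (eS4 K)) (ρ (c012 m)) z := by
  obtain ⟨i1, i2, i3⟩ := hid4
  set d1 : Sp4 K := nS K * i0 K (dMat (z : K) z.ne_zero) * (nS K)⁻¹ with hd1
  set a := a4.comp (eS4 K) with ha
  set c := ρ (c012 m) with hc
  have hxe : ∀ t : K, xe a t = a4 (eS4 K (uMat K t)) := fun t => rfl
  have hhe : he a z = a4 (eS4 K (dMat (z : K) z.ne_zero)) := rfl
  have hwe : we a = a4 (eS4 K (WU (1 : K))) := rfl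
  refine ⟨?_, hC.cw, ?_, ?_, ?_, hC.mul⟩
  · rw [hc, ← map_mul, ← map_mul, hc3, map_one]
  · -- tc
    have h := hH1 (eS4 K (dMat (z : K) z.ne_zero))
    rw [i1.eq, mul_inv_cancel_right] at h
    unfold Commute SemiconjBy
    rw [hhe]
    exact mul_inv_eq_iff_eq_mul.1 h
  · -- act
    have h := hH1 (eS4 K (uMat K 1))
    rw [i2] at h
    rw [hxe, hxe]
    exact h
  · -- wt
    have h := hH1 (eS4 K (WU (1 : K)))
    rw [i3, map_mul, map_inv] at h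
    rw [hwe, hhe]
    exact h

end Cfsg.Agent.Helper15.PSp
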