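import Mathlib
import Cfsg.Agent.Helper15.PSp.Defs2
import Cfsg.Agent.Helper1.SLNP.MainA
import Cfsg.Agent.Helper62.StCG2

/-!
# S2292 W-part piece (WCH) -- see `tools/helper1_pspw/README.md` and board WANTED of helper1.
-/

set_option autoImplicit false

namespace Cfsg.Agent.Helper15.PSp

open Matrix Cfsg.Agent.Helper96.StC Cfsg.Agent.Helper96.StN Cfsg.Agent.Helper29.StCM
  Cfsg.Agent.Helper96.StemSLTwo Cfsg.Agent.Helper96.StPres Cfsg.Agent.Helper9.Sp4P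
  Cfsg.Agent.Helper1.SL3P Cfsg.Agent.Helper1.SLNP

universe u v

variable {K : Type u} [Field K] {D : Type v} [Group D] {m : ℕ}

theorem WCH_aux (a4 : Sp4 K →* D) (c Z : D) (d0 d1 g : Sp4 K)
    (e1 : c * a4 d0 * c⁻¹ = a4 d1) (e2 : c * a4 d1 * c⁻¹ = Z) (hZc : Z * a4 g = a4 g * Z) :
    (c * (a4 d0 * (a4 d1)⁻¹) * c⁻¹) * a4 g * (c * (a4 d0 * (a4 d1)⁻¹) * c⁻¹)⁻¹ =
      a4 (d1 * g * d1⁻¹) := by
  have hH : c * (a4 d0 * (a4 d1)⁻¹) * c⁻¹ = a4 d1 * Z⁻¹ := by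
    have : c * (a4 d0 * (a4 d1)⁻¹) * c⁻¹ = (c * a4 d0 * c⁻¹) * (c * a4 d1 * c⁻¹)⁻¹ := by group
    rw [this, e1, e2]
  have hZi : Z⁻¹ * a4 g * Z = a4 g := by
    rw [mul_assoc, ← hZc, ← mul_assoc, inv_mul_cancel, one_mul]
  rw [hH, map_mul, map_mul, map_inv]
  calc a4 d1 * Z⁻¹ * a4 g * (a4 d1 * Z⁻¹)⁻¹ = a4 d1 * (Z⁻¹ * a4 g * Z) * (a4 d1)⁻¹ := by group
    _ = a4 d1 * a4 g * (a4 d1)⁻¹ := by rw [hZi]

theorem conj_H1 {a4 : Sp4 K →* D} {ρ : Alt m →* D} (z : Kˣ)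
    (hid3 : eS4 K (dMat (z : K) z.ne_zero) =
      i0 K (dMat (z : K) z.ne_zero) * (nS K * i0 K (dMat (z : K) z.ne_zero) * (nS K)⁻¹)⁻¹)
    (h1 : ∀ g : SL2 K,
      ρ (c012 m) * a4 (i0 K g) * (ρ (c012 m))⁻¹ = a4 (nS K * i0 K g * (nS K)⁻¹))
    (h2 : ∀ g : SL2 K, ρ (c012 m) * a4 (nS K * i0 K g * (nS K)⁻¹) * (ρ (c012 m))⁻¹ =
      ρ (pi0 m) * a4 (i0 K g) * (ρ (pi0 m))⁻¹)
    (hdj : ∀ g g' : Sp4 K, Commute (a4 g) (ρ (pi0 m) * a4 g' * (ρ (pi0 m))⁻¹))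
    (g : Sp4 K) :
    (ρ (c012 m) * he (a4.comp (eS4 K)) z * (ρ (c012 m))⁻¹) * a4 g *
      (ρ (c012 m) * he (a4.comp (eS4 K)) z * (ρ (c012 m))⁻¹)⁻¹ =
      a4 ((nS K * i0 K (dMat (z : K) z.ne_zero) * (nS K)⁻¹) * g *
        (nS K * i0 K (dMat (z : K) z.ne_zero) * (nS K)⁻¹)⁻¹) := by
  have hhe : he (a4.comp (eS4 K)) z = a4 (i0 K (dMat (z : K) z.ne_zero)) *
      (a4 (nS K * i0 K (dMat (z : K) z.ne_zero) * (nS K)⁻¹))⁻¹ := by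
    change a4 (eS4 K (dMat (z : K) z.ne_zero)) = _
    rw [hid3, map_mul, map_inv]
  rw [hhe]
  exact WCH_aux a4 (ρ (c012 m)) (ρ (pi0 m) * a4 (i0 K (dMat (z : K) z.ne_zero)) * (ρ (pi0 m))⁻¹)
    (i0 K (dMat (z : K) z.ne_zero)) (nS K * i0 K (dMat (z : K) z.ne_zero) * (nS K)⁻¹) g
    (h1 _) (h2 _) (hdj g _).eq.symm

end Cfsg.Agent.Helper15.PSp
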