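import Mathlib
import Cfsg.Agent.Helper15.PSp.Defs2
import Cfsg.Agent.Helper1.SLNP.MainA
import Cfsg.Agent.Helper62.StCG2

/-!
# S2292 W-part piece (WDJ) -- see `tools/helper1_pspw/README.md` and board WANTED of helper1.
-/

set_option autoImplicit false

namespace Cfsg.Agent.Helper15.PSp

open Matrix Cfsg.Agent.Helper96.StC Cfsg.Agent.Helper96.StN Cfsg.Agent.Helper29.StCM
  Cfsg.Agent.Helper96.StemSLTwo Cfsg.Agent.Helper96.StPres Cfsg.Agent.Helper9.Sp4P
  Cfsg.Agent.Helper1.SL3P Cfsg.Agent.Helper1.SLNP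

universe u v

variable {K : Type u} [Field K] {D : Type v} [Group D] {m : ℕ}

theorem WDJ_aux {G : Type*} [Group G] {l1 l2 : G}
    (hl : Subgroup.closure ({l1, l2} : Set G) = ⊤) (f : G →* D) (x : D)
    (h1 : Commute x (f l1)) (h2 : Commute x (f l2)) : ∀ g : G, Commute x (f g) := by
  intro g
  have hle : Subgroup.closure ({l1, l2} : Set G) ≤
      (Subgroup.centralizer ({x} : Set D)).comap f := by
    rw [Subgroup.closure_le]
    intro y hy
    rw [SetLike.mem_coe, Subgroup.mem_comap, Subgroup.mem_centralizer_singleton_iff]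
    rcases hy with rfl | rfl
    · exact h1.symm.eq
    · exact h2.symm.eq
  have hg : g ∈ (Subgroup.centralizer ({x} : Set D)).comap f := hle (hl ▸ Subgroup.mem_top g)
  rw [Subgroup.mem_comap, Subgroup.mem_centralizer_singleton_iff] at hg
  exact hg.symm

theorem glue4_dj {a4 : Sp4 K →* D} {ρ : Alt m →* D} {z : Kˣ} {l1 l2 : Sp4 K} {s1 s2 : Alt m}
    (hl : Subgroup.closure ({l1, l2} : Set (Sp4 K)) = ⊤)
    (hG : GlueGen4 a4 ρ z l1 l2 s1 s2) :
    ∀ g g' : Sp4 K, Commute (a4 g) (ρ (pi0 m) * a4 g' * (ρ (pi0 m))⁻¹) := by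
  obtain ⟨f, hf⟩ : ∃ f : Sp4 K →* D, ∀ g' : Sp4 K, f g' = ρ (pi0 m) * a4 g' * (ρ (pi0 m))⁻¹ :=
    ⟨((MulAut.conj (ρ (pi0 m))).toMonoidHom).comp a4, fun g' => rfl⟩
  have h1 : ∀ g' : Sp4 K, Commute (a4 l1) (f g') := by
    apply WDJ_aux hl f
    · rw [hf]; exact hG.d11
    · rw [hf]; exact hG.d12
  have h2 : ∀ g' : Sp4 K, Commute (a4 l2) (f g') := by
    apply WDJ_aux hl f
    · rw [hf]; exact hG.d21
    · rw [hf]; exact hG.d22
  intro g g'
  rw [← hf]
  exact (WDJ_aux hl a4 (f g') (h1 g').symm (h2 g').symm g).symm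

end Cfsg.Agent.Helper15.PSp
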