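import Mathlib
import Cfsg.Agent.Helper15.PSp.Defs2
import Cfsg.Agent.Helper1.SLNP.MainA
import Cfsg.Agent.Helper62.StCG2

/-!
# S2292 W-part piece (WDJF) -- see `tools/helper1_pspw/README.md` and board WANTED of helper1.
-/

set_option autoImplicit false

namespace Cfsg.Agent.Helper15.PSp

open Matrix Cfsg.Agent.Helper96.StC Cfsg.Agent.Helper96.StN Cfsg.Agent.Helper29.StCM
  Cfsg.Agent.Helper96.StemSLTwo Cfsg.Agent.Helper96.StPres Cfsg.Agent.Helper9.Sp4P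
  Cfsg.Agent.Helper1.SL3P Cfsg.Agent.Helper1.SLNP

universe u v

variable {K : Type u} [Field K] {D : Type v} [Group D] {m : ℕ}

theorem fam_dj {a4 : Sp4 K →* D} {ρ : Alt m →* D}
    (hT4 : ∀ (i j k l : Fin (m + 4)), i ≠ j → i ≠ k → i ≠ l → j ≠ k → j ≠ l → k ≠ l →
      ∃ π : Alt m, ((π.1 (p0 m) = i ∧ π.1 (p1 m) = j) ∨ (π.1 (p0 m) = j ∧ π.1 (p1 m) = i)) ∧
        π.1 (p2 m) = k ∧ π.1 (p3 m) = l)
    (hpi : (pi0 m).1 (p0 m) = p2 m ∧ (pi0 m).1 (p1 m) = p3 m)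
    (haf : ∀ (i j : Fin (m + 4)), i ≠ j → ∀ π : Alt m, π.1 (p0 m) = i → π.1 (p1 m) = j →
      ∀ g : Sp4 K, AF a4 ρ i j g = ρ π * a4 g * (ρ π)⁻¹)
    (hsw : ∀ i j : Fin (m + 4), i ≠ j → ∀ g : Sp4 K,
      AF a4 ρ j i g = AF a4 ρ i j (nS K * g * (nS K)⁻¹))
    (hdj : ∀ g g' : Sp4 K, Commute (a4 g) (ρ (pi0 m) * a4 g' * (ρ (pi0 m))⁻¹)) :
    ∀ i j k l : Fin (m + 4), i ≠ j → k ≠ l → k ≠ i → k ≠ j → l ≠ i → l ≠ j → ∀ g g' : Sp4 K,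
      Commute (AF a4 ρ i j g) (AF a4 ρ k l g') := by
  intro i j k l hij hkl hki hkj hli hlj g g'
  obtain ⟨π, hπ, hk, hl⟩ := hT4 i j k l hij (Ne.symm hki) (Ne.symm hli) (Ne.symm hkj) (Ne.symm hlj) hkl
  have hkl' : AF a4 ρ k l g' = ρ π * (ρ (pi0 m) * a4 g' * (ρ (pi0 m))⁻¹) * (ρ π)⁻¹ := by
    have h0 : (π * pi0 m).1 (p0 m) = k := by
      change π.1 ((pi0 m).1 (p0 m)) = k
      rw [hpi.1, hk]
    have h1 : (π * pi0 m).1 (p1 m) = l := by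
      change π.1 ((pi0 m).1 (p1 m)) = l
      rw [hpi.2, hl]
    rw [haf k l hkl (π * pi0 m) h0 h1 g', map_mul]
    group
  have key : ∀ g'' : Sp4 K, Commute (ρ π * a4 g'' * (ρ π)⁻¹)
      (ρ π * (ρ (pi0 m) * a4 g' * (ρ (pi0 m))⁻¹) * (ρ π)⁻¹) := by
    intro g''
    have h := (hdj g'' g').eq
    unfold Commute SemiconjBy
    calc ρ π * a4 g'' * (ρ π)⁻¹ * (ρ π * (ρ (pi0 m) * a4 g' * (ρ (pi0 m))⁻¹) * (ρ π)⁻¹)
        = ρ π * (a4 g'' * (ρ (pi0 m) * a4 g' * (ρ (pi0 m))⁻¹)) * (ρ π)⁻¹ := by group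
      _ = ρ π * ((ρ (pi0 m) * a4 g' * (ρ (pi0 m))⁻¹) * a4 g'') * (ρ π)⁻¹ := by rw [h]
      _ = _ := by group
  rw [hkl']
  rcases hπ with ⟨h0, h1⟩ | ⟨h0, h1⟩
  · rw [haf i j hij π h0 h1 g]
    exact key g
  · have e : AF a4 ρ i j g = AF a4 ρ j i (nS K * g * (nS K)⁻¹) := hsw j i (Ne.symm hij) g
    rw [e, haf j i (Ne.symm hij) π h0 h1 _]
    exact key _

end Cfsg.Agent.Helper15.PSp
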