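import Mathlib
import Cfsg.Agent.Helper15.PSp.Defs2
import Cfsg.Agent.Helper1.SLNP.MainA
import Cfsg.Agent.Helper62.StCG2

/-!
# S2292 W-part piece (WDJL) -- see `tools/helper1_pspw/README.md` and board WANTED of helper1.
-/

set_option autoImplicit false

namespace Cfsg.Agent.Helper15.PSp

open Matrix Cfsg.Agent.Helper96.StC Cfsg.Agent.Helper96.StN Cfsg.Agent.Helper29.StCM
  Cfsg.Agent.Helper96.StemSLTwo Cfsg.Agent.Helper96.StPres Cfsg.Agent.Helper9.Sp4P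
  Cfsg.Agent.Helper1.SL3P Cfsg.Agent.Helper1.SLNP

universe u v

variable {K : Type u} [Field K] {D : Type v} [Group D] {m : ℕ}

theorem fam_djl {a4 : Sp4 K →* D} {ρ : Alt m →* D}
    (h4 : ∀ i j k : Fin (m + 4), ∃ l : Fin (m + 4), l ≠ i ∧ l ≠ j ∧ l ≠ k)
    (hlo : ∀ i j j' : Fin (m + 4), i ≠ j → i ≠ j' → ∀ g : SL2 K,
      AF a4 ρ i j (i0 K g) = AF a4 ρ i j' (i0 K g))
    (hdj : ∀ i j k l : Fin (m + 4), i ≠ j → k ≠ l → k ≠ i → k ≠ j → l ≠ i → l ≠ j →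
      ∀ g g' : Sp4 K, Commute (AF a4 ρ i j g) (AF a4 ρ k l g')) :
    ∀ i j k l : Fin (m + 4), i ≠ j → k ≠ l → k ≠ i → k ≠ j → ∀ (g : Sp4 K) (g' : SL2 K),
      Commute (AF a4 ρ i j g) (AF a4 ρ k l (i0 K g')) := by
  intro i j k l hij hkl hki hkj g g'
  obtain ⟨l', h1, h2, h3⟩ := h4 k i j
  rw [hlo k l l' hkl (Ne.symm h1) g']
  exact hdj i j k l' hij (Ne.symm h1) hki hkj h2 h3 g _

end Cfsg.Agent.Helper15.PSp
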