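import Mathlib
import Cfsg.Agent.Helper15.PSp.Defs2
import Cfsg.Agent.Helper1.SLNP.MainA
import Cfsg.Agent.Helper62.StCG2

/-!
# S2292 W-part piece (WFL) -- see `tools/helper1_pspw/README.md` and board WANTED of helper1.
-/

set_option autoImplicit false

namespace Cfsg.Agent.Helper15.PSp

open Matrix Cfsg.Agent.Helper96.StC Cfsg.Agent.Helper96.StN Cfsg.Agent.Helper29.StCM
  Cfsg.Agent.Helper96.StemSLTwo Cfsg.Agent.Helper96.StPres Cfsg.Agent.Helper9.Sp4P
  Cfsg.Agent.Helper1.SL3P Cfsg.Agent.Helper1.SLNP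

universe u v

variable {K : Type u} [Field K] {D : Type v} [Group D] {m : ℕ}

theorem glue4_fl {a4 : Sp4 K →* D} {ρ : Alt m →* D} {z : Kˣ} {l1 l2 : Sp4 K} {s1 s2 : Alt m}
    (hl : Subgroup.closure ({l1, l2} : Set (Sp4 K)) = ⊤)
    (hG : GlueGen4 a4 ρ z l1 l2 s1 s2) :
    ∀ g : Sp4 K, ρ (sg m) * a4 g * (ρ (sg m))⁻¹ = a4 (nS K * g * (nS K)⁻¹) := by
  have key : (MulAut.conj (ρ (sg m))).toMonoidHom.comp a4 =
      a4.comp (MulAut.conj (nS K)).toMonoidHom := by
    apply MonoidHom.eq_of_eqOn_dense hl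
    intro x hx
    rcases hx with rfl | hx
    · exact hG.fl1
    · rw [Set.mem_singleton_iff] at hx
      subst hx
      exact hG.fl2
  intro g
  exact DFunLike.congr_fun key g

end Cfsg.Agent.Helper15.PSp
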