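import Mathlib
import Cfsg.Agent.Helper15.PSp.Defs2
import Cfsg.Agent.Helper1.SLNP.MainA
import Cfsg.Agent.Helper62.StCG2
import Cfsg.Agent.Helper15.PSp.P_EM

/-!
# S2292 W-part piece (WG4) -- see `tools/helper1_pspw/README.md` and board WANTED of helper1.
-/

set_option autoImplicit false

namespace Cfsg.Agent.Helper15.PSp

open Matrix Cfsg.Agent.Helper96.StC Cfsg.Agent.Helper96.StN Cfsg.Agent.Helper29.StCM
  Cfsg.Agent.Helper96.StemSLTwo Cfsg.Agent.Helper96.StPres Cfsg.Agent.Helper9.Sp4P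
  Cfsg.Agent.Helper1.SL3P Cfsg.Agent.Helper1.SLNP

universe u v

variable {K : Type u} [Field K] {D : Type v} [Group D] {m : ℕ}

theorem gen_XC_aux {a4 : Sp4 K →* D} {ρ : Alt m →* D} (o : Fin (m + 4) → Fin (m + 4))
    (hid : ∀ t : K, eS4 K (uMat K t) = spT (Sum.inl 0) (Sum.inl 1) t)
    (hsp : Subgroup.closure {g : Sp4 K | ∃ p q, p ≠ q ∧ ∃ t, g = spT p q t} = ⊤)
    (haf : ∀ g : Sp4 K, AF a4 ρ (p0 m) (p1 m) g = a4 g)
    (hkey : ∀ (i j : Fin (m + 4)), i ≠ j → ∀ p q : Fin 2 ⊕ Fin 2, p ≠ q → ∀ t : K,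
      XC (AF a4 ρ) o (em i j p) (em i j q) t = AF a4 ρ i j (spT p q t))
    (hρ : ρ.range ≤
      Subgroup.closure {g | ∃ i j, i ≠ j ∧ ∃ t, g = XN (a4.comp (eS4 K)) ρ i j t})
    (htop : a4.range ⊔ ρ.range = ⊤) :
    Subgroup.closure {g | ∃ p q, p ≠ q ∧ ∃ t, g = XC (AF a4 ρ) o p q t} = ⊤ := by
  set H : Subgroup D :=
    Subgroup.closure {g | ∃ p q, p ≠ q ∧ ∃ t, g = XC (AF a4 ρ) o p q t} with hH
  have hem : ∀ i j : Fin (m + 4), i ≠ j → Function.Injective (em i j) :=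
    fun i j hij => em_injective hij
  have hXC : ∀ (i j : Fin (m + 4)), i ≠ j → ∀ p q : Fin 2 ⊕ Fin 2, p ≠ q → ∀ t : K,
      AF a4 ρ i j (spT p q t) ∈ H := by
    intro i j hij p q hpq t
    rw [← hkey i j hij p q hpq t]
    apply Subgroup.subset_closure
    exact ⟨em i j p, em i j q, fun h => hpq (hem i j hij h), t, rfl⟩
  have hρH : ρ.range ≤ H := by
    refine hρ.trans ?_
    rw [Subgroup.closure_le]
    rintro _ ⟨i, j, hij, t, rfl⟩
    have e : XN (a4.comp (eS4 K)) ρ i j t = AF a4 ρ i j (spT (Sum.inl 0) (Sum.inl 1) t) := by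
      unfold XN
      rw [if_neg hij, ← hid]
      rfl
    rw [e]
    exact hXC i j hij _ _ (by simp) t
  have haH : a4.range ≤ H := by
    rw [MonoidHom.range_eq_map, ← hsp, MonoidHom.map_closure, Subgroup.closure_le]
    rintro _ ⟨_, ⟨p, q, hpq, t, rfl⟩, rfl⟩
    rw [← haf]
    exact hXC (p0 m) (p1 m) (p0_ne_p1 m) p q hpq t
  rw [eq_top_iff, ← htop]
  exact sup_le haH hρH

end Cfsg.Agent.Helper15.PSp
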