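import Mathlib
import Cfsg.Agent.Helper15.PSp.Defs2
import Cfsg.Agent.Helper1.SLNP.MainA
import Cfsg.Agent.Helper62.StCG2

/-!
# S2292 W-part piece (WGL) -- see `tools/helper1_pspw/README.md` and board WANTED of helper1.
-/

set_option autoImplicit false

namespace Cfsg.Agent.Helper15.PSp

open Matrix Cfsg.Agent.Helper96.StC Cfsg.Agent.Helper96.StN Cfsg.Agent.Helper29.StCM
  Cfsg.Agent.Helper96.StemSLTwo Cfsg.Agent.Helper96.StPres Cfsg.Agent.Helper9.Sp4P
  Cfsg.Agent.Helper1.SL3P Cfsg.Agent.Helper1.SLNP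

universe u v

variable {K : Type u} [Field K] {D : Type v} [Group D] {m : ℕ}

theorem glue_of_glue4 {a4 : Sp4 K →* D} {ρ : Alt m →* D}
    (hid : ∀ g : SL2 K, nS K * eS4 K g * (nS K)⁻¹ = eS4 K (flip g))
    (hG : Glue4 a4 ρ) : Glue (a4.comp (eS4 K)) ρ := by
  refine ⟨fun π h0 h1 g => hG.st π h0 h1 _, fun g => ?_, fun g g' => hG.dj _ _⟩
  rw [MonoidHom.comp_apply, hG.fl, hid, MonoidHom.comp_apply]

end Cfsg.Agent.Helper15.PSp
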