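import Mathlib
import Cfsg.Agent.Helper15.PSp.Defs2
import Cfsg.Agent.Helper1.SLNP.MainA
import Cfsg.Agent.Helper62.StCG2

/-!
# S2292 W-part piece (WGN) -- see `tools/helper1_pspw/README.md` and board WANTED of helper1.
-/

set_option autoImplicit false

namespace Cfsg.Agent.Helper15.PSp

open Matrix Cfsg.Agent.Helper96.StC Cfsg.Agent.Helper96.StN Cfsg.Agent.Helper29.StCM
  Cfsg.Agent.Helper96.StemSLTwo Cfsg.Agent.Helper96.StPres Cfsg.Agent.Helper9.Sp4P
  Cfsg.Agent.Helper1.SL3P Cfsg.Agent.Helper1.SLNP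

universe u v

variable {K : Type u} [Field K] {D : Type v} [Group D] {m : ℕ}

theorem ranges_le_closure_XN {a : SL2 K →* D} {ρ : Alt m →* D}
    (hc : HXconj a ρ) (h3n : HX3N a ρ)
    (hconj : Subgroup.closure {g : Alt m | ∃ π : Alt m, g = π * c012 m * π⁻¹} = ⊤)
    (hc3 : ρ (c012 m) * ρ (c012 m) * ρ (c012 m) = 1)
    (hcw : we a * (ρ (c012 m))⁻¹ * we a * (ρ (c012 m))⁻¹ = 1) :
    ρ.range ≤ Subgroup.closure {g | ∃ i j, i ≠ j ∧ ∃ t, g = XN a ρ i j t} := by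
  set H : Subgroup D := Subgroup.closure {g | ∃ i j, i ≠ j ∧ ∃ t, g = XN a ρ i j t} with hH
  obtain ⟨hr, hcm⟩ := gen_X3 (a := a) (c := ρ (c012 m)) hc3 hcw
  have h3H : Subgroup.closure {g | ∃ i j, i ≠ j ∧ ∃ t, g = X3 a (ρ (c012 m)) i j t} ≤ H := by
    rw [Subgroup.closure_le]
    rintro g ⟨i, j, hij, t, rfl⟩
    apply Subgroup.subset_closure
    exact ⟨emb m i, emb m j, fun h => hij (GENN_emb_injective m h), t, (h3n i j t).symm⟩
  have hcH : ρ (c012 m) ∈ H := h3H hcm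
  have hnorm : ∀ (π : Alt m) (g : D), g ∈ H → ρ π * g * (ρ π)⁻¹ ∈ H := by
    intro π g hg
    induction hg using Subgroup.closure_induction with
    | mem x hx =>
      obtain ⟨i, j, hij, t, rfl⟩ := hx
      rw [hc π i j t]
      apply Subgroup.subset_closure
      exact ⟨π.1 i, π.1 j, fun h => hij (π.1.injective h), t, rfl⟩
    | one => simp [H.one_mem]
    | mul x y _ _ hx hy =>
      have : ρ π * (x * y) * (ρ π)⁻¹ = (ρ π * x * (ρ π)⁻¹) * (ρ π * y * (ρ π)⁻¹) := by group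
      rw [this]
      exact H.mul_mem hx hy
    | inv x _ hx =>
      have : ρ π * x⁻¹ * (ρ π)⁻¹ = (ρ π * x * (ρ π)⁻¹)⁻¹ := by group
      rw [this]
      exact H.inv_mem hx
  rw [MonoidHom.range_eq_map, ← hconj, MonoidHom.map_closure, Subgroup.closure_le]
  rintro _ ⟨_, ⟨π, rfl⟩, rfl⟩
  rw [map_mul, map_mul, map_inv]
  exact hnorm π _ hcH

end Cfsg.Agent.Helper15.PSp
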