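import Mathlib
import Cfsg.Agent.Helper15.PSp.Defs2
import Cfsg.Agent.Helper1.SLNP.MainA
import Cfsg.Agent.Helper62.StCG2

/-!
# S2292 W-part piece (WID1) -- see `tools/helper1_pspw/README.md` and board WANTED of helper1.
-/

set_option autoImplicit false

namespace Cfsg.Agent.Helper15.PSp

open Matrix Cfsg.Agent.Helper96.StC Cfsg.Agent.Helper96.StN Cfsg.Agent.Helper29.StCM
  Cfsg.Agent.Helper96.StemSLTwo Cfsg.Agent.Helper96.StPres Cfsg.Agent.Helper9.Sp4P
  Cfsg.Agent.Helper1.SL3P Cfsg.Agent.Helper1.SLNP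

universe u v

variable {K : Type u} [Field K] {D : Type v} [Group D] {m : ℕ}

theorem eS4_uMat (t : K) : eS4 K (uMat K t) = spT (Sum.inl 0) (Sum.inl 1) t := by
  apply Subtype.ext
  have hne : (Sum.inl 0 : Fin 2 ⊕ Fin 2) ≠ Sum.inl 1 := by decide
  rw [spT_coe hne]
  show ((Cfsg.Agent.Helper9.Sp4P.eS K (uMat K t) : Matrix.symplecticGroup (Fin 2) K) :
    Matrix (Fin 2 ⊕ Fin 2) (Fin 2 ⊕ Fin 2) K) = _
  rw [coe_eS, Matrix.SpecialLinearGroup.coe_inv, uMat_coe, Matrix.adjugate_fin_two_of]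
  have hq : ¬ (Sum.inl 1 : Fin 2 ⊕ Fin 2) = bar (Sum.inl 0) := by decide
  unfold spM
  rw [if_neg hq]
  ext p q
  rcases p with p | p <;> rcases q with q | q <;> fin_cases p <;> fin_cases q <;>
    simp [Matrix.fromBlocks, Matrix.single_apply, bar, eps]

end Cfsg.Agent.Helper15.PSp
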