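import Mathlib
import Cfsg.Agent.Helper15.PSp.Defs2
import Cfsg.Agent.Helper1.SLNP.MainA
import Cfsg.Agent.Helper62.StCG2
import Cfsg.Agent.Helper15.PSp.P_NS

/-!
# S2292 W-part piece (WID2) -- see `tools/helper1_pspw/README.md` and board WANTED of helper1.
-/

set_option autoImplicit false

namespace Cfsg.Agent.Helper15.PSp

open Matrix Cfsg.Agent.Helper96.StC Cfsg.Agent.Helper96.StN Cfsg.Agent.Helper29.StCM
  Cfsg.Agent.Helper96.StemSLTwo Cfsg.Agent.Helper96.StPres Cfsg.Agent.Helper9.Sp4P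
  Cfsg.Agent.Helper1.SL3P Cfsg.Agent.Helper1.SLNP

universe u v

variable {K : Type u} [Field K] {D : Type v} [Group D] {m : ℕ}

theorem nS_eS4 (g : SL2 K) : nS K * eS4 K g * (nS K)⁻¹ = eS4 K (flip g) := by
  have hinv : (nS K)⁻¹ = nS K := inv_eq_of_mul_eq_one_right NS_sq
  rw [hinv]
  apply Subtype.ext
  show nSMat K * ((Cfsg.Agent.Helper9.Sp4P.eS K g : Matrix.symplecticGroup (Fin 2) K) :
    Matrix (Fin 2 ⊕ Fin 2) (Fin 2 ⊕ Fin 2) K) * nSMat K =
    ((Cfsg.Agent.Helper9.Sp4P.eS K (flip g) : Matrix.symplecticGroup (Fin 2) K) :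
    Matrix (Fin 2 ⊕ Fin 2) (Fin 2 ⊕ Fin 2) K)
  rw [coe_eS, coe_eS, Matrix.SpecialLinearGroup.coe_inv, Matrix.SpecialLinearGroup.coe_inv,
    coe_flip, Matrix.adjugate_fin_two_of, Matrix.adjugate_fin_two]
  ext p q
  rw [NS_conj]
  rcases p with p | p <;> rcases q with q | q <;> fin_cases p <;> fin_cases q <;>
    simp [Matrix.fromBlocks, sw]

end Cfsg.Agent.Helper15.PSp
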