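import Mathlib
import Cfsg.Agent.Helper15.PSp.Defs2
import Cfsg.Agent.Helper1.SLNP.MainA
import Cfsg.Agent.Helper62.StCG2
import Cfsg.Agent.Helper15.PSp.P_NS

/-!
# S2292 W-part piece (WID3) -- see `tools/helper1_pspw/README.md` and board WANTED of helper1.
-/

set_option autoImplicit false

namespace Cfsg.Agent.Helper15.PSp

open Matrix Cfsg.Agent.Helper96.StC Cfsg.Agent.Helper96.StN Cfsg.Agent.Helper29.StCM
  Cfsg.Agent.Helper96.StemSLTwo Cfsg.Agent.Helper96.StPres Cfsg.Agent.Helper9.Sp4P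
  Cfsg.Agent.Helper1.SL3P Cfsg.Agent.Helper1.SLNP

universe u v

variable {K : Type u} [Field K] {D : Type v} [Group D] {m : ℕ}

/-- entries of a conjugate by the swap of the two pairs -/
theorem WID3_conj_coe (M : Sp4 K) (p q : Fin 2 ⊕ Fin 2) :
    ((nS K * M * (nS K)⁻¹ : Sp4 K) : Matrix (Fin 2 ⊕ Fin 2) (Fin 2 ⊕ Fin 2) K) p q =
      M.1 (sw p) (sw q) := by
  have hinv : (nS K)⁻¹ = nS K := inv_eq_of_mul_eq_one_right NS_sq
  rw [hinv]
  exact NS_conj M.1 p q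

/-- the matrix of `i0 (dMat z)` -/
theorem WID3_i0_dMat (z : K) (hz : z ≠ 0) :
    ((i0 K (dMat z hz) : Sp4 K) : Matrix (Fin 2 ⊕ Fin 2) (Fin 2 ⊕ Fin 2) K) =
      fromBlocks (diagonal ![z, 1]) 0 0 (diagonal ![z⁻¹, 1]) := by
  unfold i0
  rw [Cfsg.Agent.Helper84.PSp.coe_sl2, dMat_coe]
  ext p q
  rcases p with p | p <;> rcases q with q | q <;> fin_cases p <;> fin_cases q <;> simp

/-- the matrix of `eS4 (dMat z)` -/
theorem WID3_eS4_dMat (z : K) (hz : z ≠ 0) :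
    ((eS4 K (dMat z hz) : Sp4 K) : Matrix (Fin 2 ⊕ Fin 2) (Fin 2 ⊕ Fin 2) K) =
      fromBlocks (diagonal ![z, z⁻¹]) 0 0 (diagonal ![z⁻¹, z]) := by
  rw [coe_eS, Matrix.SpecialLinearGroup.coe_inv, dMat_coe, Matrix.adjugate_fin_two_of]
  ext p q
  rcases p with p | p <;> rcases q with q | q <;> fin_cases p <;> fin_cases q <;> simp

theorem eS4_dMat (z : Kˣ) :
    eS4 K (dMat (z : K) z.ne_zero) =
      i0 K (dMat (z : K) z.ne_zero) * (nS K * i0 K (dMat (z : K) z.ne_zero) * (nS K)⁻¹)⁻¹ := by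
  rw [eq_mul_inv_iff_mul_eq]
  apply Subtype.ext
  have hz : (z : K) ≠ 0 := z.ne_zero
  show (eS4 K (dMat (z : K) z.ne_zero)).1 *
      (nS K * i0 K (dMat (z : K) z.ne_zero) * (nS K)⁻¹).1 = (i0 K (dMat (z : K) z.ne_zero)).1
  ext p q
  rw [Matrix.mul_apply, Fintype.sum_sum_type, Fin.sum_univ_two, Fin.sum_univ_two]
  simp only [WID3_conj_coe, WID3_i0_dMat, WID3_eS4_dMat]
  rcases p with p | p <;> rcases q with q | q <;> fin_cases p <;> fin_cases q <;>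
    simp [sw, hz]

end Cfsg.Agent.Helper15.PSp
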