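import Mathlib
import Cfsg.Agent.Helper15.PSp.Defs2
import Cfsg.Agent.Helper1.SLNP.MainA
import Cfsg.Agent.Helper62.StCG2
import Cfsg.Agent.Helper15.PSp.P_NS
import Cfsg.Agent.Helper1.PSpW.P_WID3

/-!
# S2292 W-part piece (WID4) -- see `tools/helper1_pspw/README.md` and board WANTED of helper1.
-/

set_option autoImplicit false

namespace Cfsg.Agent.Helper15.PSp

open Matrix Cfsg.Agent.Helper96.StC Cfsg.Agent.Helper96.StN Cfsg.Agent.Helper29.StCM
  Cfsg.Agent.Helper96.StemSLTwo Cfsg.Agent.Helper96.StPres Cfsg.Agent.Helper9.Sp4P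
  Cfsg.Agent.Helper1.SL3P Cfsg.Agent.Helper1.SLNP

universe u v

variable {K : Type u} [Field K] {D : Type v} [Group D] {m : ℕ}

/-- the matrix of `nS * i0 (dMat z) * nS⁻¹` -/
theorem WID4_D1_coe (z : K) (hz : z ≠ 0) :
    ((nS K * i0 K (dMat z hz) * (nS K)⁻¹ : Sp4 K) :
      Matrix (Fin 2 ⊕ Fin 2) (Fin 2 ⊕ Fin 2) K) =
      fromBlocks (diagonal ![1, z]) 0 0 (diagonal ![1, z⁻¹]) := by
  ext p q
  rw [WID3_conj_coe, WID3_i0_dMat]
  rcases p with p | p <;> rcases q with q | q <;> fin_cases p <;> fin_cases q <;> simp [sw]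

/-- the matrix of `eS4 g` with explicit entries -/
theorem WID4_eS4_coe (g : SL2 K) :
    ((eS4 K g : Sp4 K) : Matrix (Fin 2 ⊕ Fin 2) (Fin 2 ⊕ Fin 2) K) =
      fromBlocks g.1 0 0 !![g.1 1 1, -g.1 1 0; -g.1 0 1, g.1 0 0] := by
  rw [coe_eS, Matrix.SpecialLinearGroup.coe_inv, Matrix.adjugate_fin_two]
  ext p q
  rcases p with p | p <;> rcases q with q | q <;> fin_cases p <;> fin_cases q <;> simp

theorem i1_act (z : Kˣ) :
    Commute (nS K * i0 K (dMat (z : K) z.ne_zero) * (nS K)⁻¹) (eS4 K (dMat (z : K) z.ne_zero)) ∧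
    (nS K * i0 K (dMat (z : K) z.ne_zero) * (nS K)⁻¹) * eS4 K (uMat K 1) *
      (nS K * i0 K (dMat (z : K) z.ne_zero) * (nS K)⁻¹)⁻¹ = eS4 K (uMat K ((z : K)⁻¹)) ∧
    (nS K * i0 K (dMat (z : K) z.ne_zero) * (nS K)⁻¹) * eS4 K (WU (1 : K)) *
      (nS K * i0 K (dMat (z : K) z.ne_zero) * (nS K)⁻¹)⁻¹ =
        (eS4 K (dMat (z : K) z.ne_zero))⁻¹ * eS4 K (WU (1 : K)) := by
  have hz : (z : K) ≠ 0 := z.ne_zero
  have hD := WID4_D1_coe (z : K) hz
  refine ⟨?_, ?_, ?_⟩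
  · show _ * _ = _ * _
    apply Subtype.ext
    show (nS K * i0 K (dMat (z : K) z.ne_zero) * (nS K)⁻¹).1 *
        (eS4 K (dMat (z : K) z.ne_zero)).1 =
      (eS4 K (dMat (z : K) z.ne_zero)).1 * (nS K * i0 K (dMat (z : K) z.ne_zero) * (nS K)⁻¹).1
    rw [hD, WID3_eS4_dMat]
    ext p q
    rcases p with p | p <;> rcases q with q | q <;> fin_cases p <;> fin_cases q <;>
      simp [Matrix.mul_apply, Fintype.sum_sum_type, Fin.sum_univ_two, mul_comm]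
  · rw [mul_inv_eq_iff_eq_mul]
    apply Subtype.ext
    show (nS K * i0 K (dMat (z : K) z.ne_zero) * (nS K)⁻¹).1 * (eS4 K (uMat K 1)).1 =
      (eS4 K (uMat K ((z : K)⁻¹))).1 * (nS K * i0 K (dMat (z : K) z.ne_zero) * (nS K)⁻¹).1
    rw [hD, WID4_eS4_coe, WID4_eS4_coe, uMat_coe, uMat_coe]
    ext p q
    rcases p with p | p <;> rcases q with q | q <;> fin_cases p <;> fin_cases q <;>
      simp [Matrix.mul_apply, Fintype.sum_sum_type, Fin.sum_univ_two, hz]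
  · rw [mul_inv_eq_iff_eq_mul, mul_assoc (eS4 K (dMat (z : K) z.ne_zero))⁻¹,
      eq_inv_mul_iff_mul_eq]
    apply Subtype.ext
    show (eS4 K (dMat (z : K) z.ne_zero)).1 *
        ((nS K * i0 K (dMat (z : K) z.ne_zero) * (nS K)⁻¹).1 * (eS4 K (WU (1 : K))).1) =
      (eS4 K (WU (1 : K))).1 * (nS K * i0 K (dMat (z : K) z.ne_zero) * (nS K)⁻¹).1
    rw [hD, WID3_eS4_dMat, WID4_eS4_coe, WU_coe 1 one_ne_zero]
    ext p q
    rcases p with p | p <;> rcases q with q | q <;> fin_cases p <;> fin_cases q <;>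
      simp [Matrix.mul_apply, Fintype.sum_sum_type, Fin.sum_univ_two, hz]

end Cfsg.Agent.Helper15.PSp
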