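import Mathlib
import Cfsg.Agent.Helper15.PSp.Defs2
import Cfsg.Agent.Helper1.SLNP.MainA
import Cfsg.Agent.Helper62.StCG2

/-!
# S2292 W-part piece (WLG) -- see `tools/helper1_pspw/README.md` and board WANTED of helper1.
-/

set_option autoImplicit false

namespace Cfsg.Agent.Helper15.PSp

open Matrix Cfsg.Agent.Helper96.StC Cfsg.Agent.Helper96.StN Cfsg.Agent.Helper29.StCM
  Cfsg.Agent.Helper96.StemSLTwo Cfsg.Agent.Helper96.StPres Cfsg.Agent.Helper9.Sp4P
  Cfsg.Agent.Helper1.SL3P Cfsg.Agent.Helper1.SLNP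

universe u v

variable {K : Type u} [Field K] {D : Type v} [Group D] {m : ℕ}

theorem glue4_lg {a4 : Sp4 K →* D} {ρ : Alt m →* D} {z : Kˣ} {l1 l2 : Sp4 K} {s1 s2 : Alt m}
    (hgen : Subgroup.closure {uMat K 1, dMat (z : K) z.ne_zero, WU (1 : K)} = ⊤)
    (hst : ∀ π : Alt m, π.1 (p0 m) = p0 m → π.1 (p1 m) = p1 m → ∀ g : Sp4 K,
      Commute (ρ π) (a4 g))
    (hpt : ∀ π : Alt m, π.1 (p0 m) = p0 m →
      π ∈ Subgroup.closure ({π' : Alt m | π'.1 (p0 m) = p0 m ∧ π'.1 (p1 m) = p1 m} ∪ {tau m}))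
    (hG : GlueGen4 a4 ρ z l1 l2 s1 s2) :
    ∀ π : Alt m, π.1 (p0 m) = p0 m → ∀ g : SL2 K, Commute (ρ π) (a4 (i0 K g)) := by
  -- τ commutes with a4 (i0 g) for all g
  have htau : ∀ g : SL2 K, Commute (ρ (tau m)) (a4 (i0 K g)) := by
    intro g
    have hg : g ∈ Subgroup.closure {uMat K 1, dMat (z : K) z.ne_zero, WU (1 : K)} := by
      rw [hgen]; exact Subgroup.mem_top g
    induction hg using Subgroup.closure_induction with
    | mem x hx =>
      rcases hx with rfl | rfl | hx
      · exact hG.tu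
      · exact hG.th
      · rw [Set.mem_singleton_iff] at hx
        subst hx
        exact hG.tw
    | one => rw [map_one, map_one]; exact Commute.one_right _
    | mul x y _ _ hx hy => rw [map_mul, map_mul]; exact hx.mul_right hy
    | inv x _ hx => rw [map_inv, map_inv]; exact hx.inv_right
  have hall : ∀ π ∈ Subgroup.closure
      ({π' : Alt m | π'.1 (p0 m) = p0 m ∧ π'.1 (p1 m) = p1 m} ∪ {tau m}),
      ∀ g : SL2 K, Commute (ρ π) (a4 (i0 K g)) := by
    intro π hmem g
    induction hmem using Subgroup.closure_induction with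
    | mem x hx =>
      rcases hx with hx | hx
      · exact hst x hx.1 hx.2 (i0 K g)
      · rw [Set.mem_singleton_iff] at hx
        subst hx
        exact htau g
    | one => rw [map_one]; exact Commute.one_left _
    | mul x y _ _ hx hy => rw [map_mul]; exact hx.mul_left hy
    | inv x _ hx => rw [map_inv]; exact hx.inv_left
  intro π hπ g
  exact hall π (hpt π hπ) g

end Cfsg.Agent.Helper15.PSp
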