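import Mathlib
import Cfsg.Agent.Helper15.PSp.Defs2
import Cfsg.Agent.Helper1.SLNP.MainA
import Cfsg.Agent.Helper62.StCG2

/-!
# S2292 W-part piece (WLO) -- see `tools/helper1_pspw/README.md` and board WANTED of helper1.
-/

set_option autoImplicit false

namespace Cfsg.Agent.Helper15.PSp

open Matrix Cfsg.Agent.Helper96.StC Cfsg.Agent.Helper96.StN Cfsg.Agent.Helper29.StCM
  Cfsg.Agent.Helper96.StemSLTwo Cfsg.Agent.Helper96.StPres Cfsg.Agent.Helper9.Sp4P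
  Cfsg.Agent.Helper1.SL3P Cfsg.Agent.Helper1.SLNP

universe u v

variable {K : Type u} [Field K] {D : Type v} [Group D] {m : ℕ}

theorem fam_long {a4 : Sp4 K →* D} {ρ : Alt m →* D}
    (hpk : ∀ i j : Fin (m + 4), i ≠ j →
      (pick m i j).1 (p0 m) = i ∧ (pick m i j).1 (p1 m) = j)
    (hafl : ∀ (i j : Fin (m + 4)), i ≠ j → ∀ π : Alt m, π.1 (p0 m) = i → ∀ g : SL2 K,
      AF a4 ρ i j (i0 K g) = ρ π * a4 (i0 K g) * (ρ π)⁻¹) :
    ∀ i j j' : Fin (m + 4), i ≠ j → i ≠ j' → ∀ g : SL2 K,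
      AF a4 ρ i j (i0 K g) = AF a4 ρ i j' (i0 K g) := by
  intro i j j' hij hij' g
  rw [hafl i j hij (pick m i j') (hpk i j' hij').1 g, AF_apply]

end Cfsg.Agent.Helper15.PSp
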