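import Mathlib
import Cfsg.Agent.Helper15.PSp.Defs2
import Cfsg.Agent.Helper1.SLNP.MainA
import Cfsg.Agent.Helper62.StCG2

/-!
# S2292 W-part piece (WP4) -- see `tools/helper1_pspw/README.md` and board WANTED of helper1.
-/

set_option autoImplicit false

namespace Cfsg.Agent.Helper15.PSp

open Matrix Cfsg.Agent.Helper96.StC Cfsg.Agent.Helper96.StN Cfsg.Agent.Helper29.StCM
  Cfsg.Agent.Helper96.StemSLTwo Cfsg.Agent.Helper96.StPres Cfsg.Agent.Helper9.Sp4P
  Cfsg.Agent.Helper1.SL3P Cfsg.Agent.Helper1.SLNP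

universe u v

variable {K : Type u} [Field K] {D : Type v} [Group D] {m : ℕ}

theorem exists_fourth (m : ℕ) (i j k : Fin (m + 4)) : ∃ l : Fin (m + 4), l ≠ i ∧ l ≠ j ∧ l ≠ k := by
  by_contra hcon
  push_neg at hcon
  have hsub : (Finset.univ : Finset (Fin (m + 4))) ⊆ {i, j, k} := by
    intro l _
    by_cases h1 : l = i
    · simp [h1]
    by_cases h2 : l = j
    · simp [h2]
    have := hcon l h1 h2
    simp [this]
  have h1 := Finset.card_le_card hsub
  have h2 : ({i, j, k} : Finset (Fin (m + 4))).card ≤ 3 := Finset.card_le_three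
  rw [Finset.card_univ, Fintype.card_fin] at h1
  omega

end Cfsg.Agent.Helper15.PSp
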