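import Mathlib
import Cfsg.Agent.Helper15.PSp.Defs2
import Cfsg.Agent.Helper1.SLNP.MainA
import Cfsg.Agent.Helper62.StCG2

/-!
# S2292 W-part piece (WPK) -- see `tools/helper1_pspw/README.md` and board WANTED of helper1.
-/

set_option autoImplicit false

namespace Cfsg.Agent.Helper15.PSp

open Matrix Cfsg.Agent.Helper96.StC Cfsg.Agent.Helper96.StN Cfsg.Agent.Helper29.StCM
  Cfsg.Agent.Helper96.StemSLTwo Cfsg.Agent.Helper96.StPres Cfsg.Agent.Helper9.Sp4P
  Cfsg.Agent.Helper1.SL3P Cfsg.Agent.Helper1.SLNP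

universe u v

variable {K : Type u} [Field K] {D : Type v} [Group D] {m : ℕ}

theorem pick_spec (m : ℕ) (i j : Fin (m + 4)) (hij : i ≠ j) :
    (pick m i j).1 (p0 m) = i ∧ (pick m i j).1 (p1 m) = j := by
  have h : ∃ π : Alt m, π.1 (p0 m) = i ∧ π.1 (p1 m) = j := exists_alt_two m i j hij
  unfold pick
  rw [dif_pos h]
  exact Classical.choose_spec h

end Cfsg.Agent.Helper15.PSp
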