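import Mathlib
import Cfsg.Agent.Helper15.PSp.Defs2
import Cfsg.Agent.Helper1.SLNP.MainA
import Cfsg.Agent.Helper62.StCG2

/-!
# S2292 W-part piece (WPT) -- see `tools/helper1_pspw/README.md` and board WANTED of helper1.
-/

set_option autoImplicit false

namespace Cfsg.Agent.Helper15.PSp

open Matrix Cfsg.Agent.Helper96.StC Cfsg.Agent.Helper96.StN Cfsg.Agent.Helper29.StCM
  Cfsg.Agent.Helper96.StemSLTwo Cfsg.Agent.Helper96.StPres Cfsg.Agent.Helper9.Sp4P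
  Cfsg.Agent.Helper1.SL3P Cfsg.Agent.Helper1.SLNP

universe u v

variable {K : Type u} [Field K] {D : Type v} [Group D] {m : ℕ}

theorem WPT_tau_p0 (m : ℕ) : (tau m).1 (p0 m) = p0 m := by
  show (Equiv.swap (p1 m) (p2 m) * Equiv.swap (p2 m) (p3 m)) (p0 m) = p0 m
  rw [Equiv.Perm.mul_apply, Equiv.swap_apply_of_ne_of_ne (p0_ne_p2 m) (p0_ne_p3 m),
    Equiv.swap_apply_of_ne_of_ne (p0_ne_p1 m) (p0_ne_p2 m)]

theorem WPT_tau_p1 (m : ℕ) : (tau m).1 (p1 m) = p2 m := by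
  show (Equiv.swap (p1 m) (p2 m) * Equiv.swap (p2 m) (p3 m)) (p1 m) = p2 m
  rw [Equiv.Perm.mul_apply, Equiv.swap_apply_of_ne_of_ne (p1_ne_p2 m) (p1_ne_p3 m),
    Equiv.swap_apply_left]

theorem WPT_tau_p3 (m : ℕ) : (tau m).1 (p3 m) = p1 m := by
  show (Equiv.swap (p1 m) (p2 m) * Equiv.swap (p2 m) (p3 m)) (p3 m) = p1 m
  rw [Equiv.Perm.mul_apply, Equiv.swap_apply_right, Equiv.swap_apply_right]

theorem WPT_tau_inv_p0 (m : ℕ) : ((tau m)⁻¹).1 (p0 m) = p0 m := by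
  show ((tau m).1)⁻¹ (p0 m) = p0 m
  rw [Equiv.Perm.inv_eq_iff_eq, WPT_tau_p0]

theorem WPT_tau_inv_p2 (m : ℕ) : ((tau m)⁻¹).1 (p2 m) = p1 m := by
  show ((tau m).1)⁻¹ (p2 m) = p1 m
  rw [Equiv.Perm.inv_eq_iff_eq, WPT_tau_p1]

theorem stab0_le (m : ℕ) (π : Alt m) (h0 : π.1 (p0 m) = p0 m) :
    π ∈ Subgroup.closure ({π' : Alt m | π'.1 (p0 m) = p0 m ∧ π'.1 (p1 m) = p1 m} ∪ {tau m}) := by
  set S : Set (Alt m) := {π' : Alt m | π'.1 (p0 m) = p0 m ∧ π'.1 (p1 m) = p1 m} with hS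
  have hSle : ∀ σ : Alt m, σ.1 (p0 m) = p0 m → σ.1 (p1 m) = p1 m →
      σ ∈ Subgroup.closure (S ∪ {tau m}) := fun σ h0 h1 =>
    Subgroup.subset_closure (Or.inl ⟨h0, h1⟩)
  have hτ : tau m ∈ Subgroup.closure (S ∪ {tau m}) :=
    Subgroup.subset_closure (Or.inr rfl)
  have hx0 : π.1 (p1 m) ≠ p0 m := by
    intro h
    have : π.1 (p1 m) = π.1 (p0 m) := by rw [h, h0]
    exact (p0_ne_p1 m) (π.1.injective this).symm
  by_cases h1 : π.1 (p1 m) = p1 m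
  · exact hSle π h0 h1
  by_cases h2 : π.1 (p1 m) = p2 m
  · -- τ⁻¹ π fixes p0, p1
    have hmem : (tau m)⁻¹ * π ∈ Subgroup.closure (S ∪ {tau m}) := by
      apply hSle
      · show ((tau m)⁻¹).1 (π.1 (p0 m)) = p0 m
        rw [h0, WPT_tau_inv_p0]
      · show ((tau m)⁻¹).1 (π.1 (p1 m)) = p1 m
        rw [h2, WPT_tau_inv_p2]
    have : π = tau m * ((tau m)⁻¹ * π) := by group
    rw [this]
    exact Subgroup.mul_mem _ hτ hmem
  by_cases h3 : π.1 (p1 m) = p3 m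
  · have hmem : tau m * π ∈ Subgroup.closure (S ∪ {tau m}) := by
      apply hSle
      · show (tau m).1 (π.1 (p0 m)) = p0 m
        rw [h0, WPT_tau_p0]
      · show (tau m).1 (π.1 (p1 m)) = p1 m
        rw [h3, WPT_tau_p3]
    have : π = (tau m)⁻¹ * (tau m * π) := by group
    rw [this]
    exact Subgroup.mul_mem _ (Subgroup.inv_mem _ hτ) hmem
  · -- x := π p1 is outside p0..p3
    set x := π.1 (p1 m) with hx
    let g : Alt m := ⟨Equiv.swap x (p2 m) * Equiv.swap (p2 m) (p3 m),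
      swap_mul_swap_mem h2 (p2_ne_p3 m)⟩
    have hg0 : g.1 (p0 m) = p0 m := by
      show (Equiv.swap x (p2 m) * Equiv.swap (p2 m) (p3 m)) (p0 m) = p0 m
      rw [Equiv.Perm.mul_apply, Equiv.swap_apply_of_ne_of_ne (p0_ne_p2 m) (p0_ne_p3 m),
        Equiv.swap_apply_of_ne_of_ne (Ne.symm hx0) (p0_ne_p2 m)]
    have hg1 : g.1 (p1 m) = p1 m := by
      show (Equiv.swap x (p2 m) * Equiv.swap (p2 m) (p3 m)) (p1 m) = p1 m
      rw [Equiv.Perm.mul_apply, Equiv.swap_apply_of_ne_of_ne (p1_ne_p2 m) (p1_ne_p3 m),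
        Equiv.swap_apply_of_ne_of_ne (Ne.symm h1) (p1_ne_p2 m)]
    have hgx : g.1 x = p2 m := by
      show (Equiv.swap x (p2 m) * Equiv.swap (p2 m) (p3 m)) x = p2 m
      rw [Equiv.Perm.mul_apply, Equiv.swap_apply_of_ne_of_ne h2 h3, Equiv.swap_apply_left]
    have hg : g ∈ Subgroup.closure (S ∪ {tau m}) := hSle g hg0 hg1
    have hmem : (tau m)⁻¹ * (g * π) ∈ Subgroup.closure (S ∪ {tau m}) := by
      apply hSle
      · show ((tau m)⁻¹).1 (g.1 (π.1 (p0 m))) = p0 m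
        rw [h0, hg0, WPT_tau_inv_p0]
      · show ((tau m)⁻¹).1 (g.1 (π.1 (p1 m))) = p1 m
        rw [← hx, hgx, WPT_tau_inv_p2]
    have : π = g⁻¹ * (tau m * ((tau m)⁻¹ * (g * π))) := by group
    rw [this]
    exact Subgroup.mul_mem _ (Subgroup.inv_mem _ hg) (Subgroup.mul_mem _ hτ hmem)

end Cfsg.Agent.Helper15.PSp
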