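import Mathlib
import Cfsg.Agent.Helper15.PSp.Defs2
import Cfsg.Agent.Helper1.SLNP.MainA
import Cfsg.Agent.Helper62.StCG2

/-!
# S2292 W-part piece (WPV) -- see `tools/helper1_pspw/README.md` and board WANTED of helper1.
-/

set_option autoImplicit false

namespace Cfsg.Agent.Helper15.PSp

open Matrix Cfsg.Agent.Helper96.StC Cfsg.Agent.Helper96.StN Cfsg.Agent.Helper29.StCM
  Cfsg.Agent.Helper96.StemSLTwo Cfsg.Agent.Helper96.StPres Cfsg.Agent.Helper9.Sp4P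
  Cfsg.Agent.Helper1.SL3P Cfsg.Agent.Helper1.SLNP

universe u v

variable {K : Type u} [Field K] {D : Type v} [Group D] {m : ℕ}

theorem WPV_swap2 {α : Type*} [DecidableEq α] (a b c d x : α) :
    (Equiv.swap a b * Equiv.swap c d) x = Equiv.swap a b (Equiv.swap c d x) := rfl

theorem WPV_p2_ne_p1 (m : ℕ) : p2 m ≠ p1 m := (p1_ne_p2 m).symm
theorem WPV_p1_ne_p0 (m : ℕ) : p1 m ≠ p0 m := (p0_ne_p1 m).symm
theorem WPV_p2_ne_p0 (m : ℕ) : p2 m ≠ p0 m := (p0_ne_p2 m).symm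
theorem WPV_p3_ne_p0 (m : ℕ) : p3 m ≠ p0 m := (p0_ne_p3 m).symm
theorem WPV_p3_ne_p1 (m : ℕ) : p3 m ≠ p1 m := (p1_ne_p3 m).symm
theorem WPV_p3_ne_p2 (m : ℕ) : p3 m ≠ p2 m := (p2_ne_p3 m).symm

theorem WPV_c012_cube (m : ℕ) : c012 m * c012 m * c012 m = 1 := by
  have c0 : (c012 m).1 (p0 m) = p1 m := by
    change (Equiv.swap (p0 m) (p1 m) * Equiv.swap (p1 m) (p2 m)) (p0 m) = p1 m
    rw [WPV_swap2, Equiv.swap_apply_of_ne_of_ne (p0_ne_p1 m) (p0_ne_p2 m), Equiv.swap_apply_left]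
  have c1 : (c012 m).1 (p1 m) = p2 m := by
    change (Equiv.swap (p0 m) (p1 m) * Equiv.swap (p1 m) (p2 m)) (p1 m) = p2 m
    rw [WPV_swap2, Equiv.swap_apply_left,
      Equiv.swap_apply_of_ne_of_ne (WPV_p2_ne_p0 m) (WPV_p2_ne_p1 m)]
  have c2 : (c012 m).1 (p2 m) = p0 m := by
    change (Equiv.swap (p0 m) (p1 m) * Equiv.swap (p1 m) (p2 m)) (p2 m) = p0 m
    rw [WPV_swap2, Equiv.swap_apply_right, Equiv.swap_apply_right]
  have cx : ∀ x, x ≠ p0 m → x ≠ p1 m → x ≠ p2 m → (c012 m).1 x = x := by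
    intro x h0 h1 h2
    change (Equiv.swap (p0 m) (p1 m) * Equiv.swap (p1 m) (p2 m)) x = x
    rw [WPV_swap2, Equiv.swap_apply_of_ne_of_ne h1 h2, Equiv.swap_apply_of_ne_of_ne h0 h1]
  apply Subtype.ext
  apply Equiv.ext
  intro x
  change (c012 m).1 ((c012 m).1 ((c012 m).1 x)) = x
  by_cases h0 : x = p0 m
  · subst h0; rw [c0, c1, c2]
  by_cases h1 : x = p1 m
  · subst h1; rw [c1, c2, c0]
  by_cases h2 : x = p2 m
  · subst h2; rw [c2, c0, c1]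
  rw [cx x h0 h1 h2, cx x h0 h1 h2, cx x h0 h1 h2]

theorem perm_values (m : ℕ) :
    (c012 m).1 (p0 m) = p1 m ∧ (c012 m).1 (p1 m) = p2 m ∧ (c012 m).1 (p2 m) = p0 m ∧
    (sg m).1 (p0 m) = p1 m ∧ (sg m).1 (p1 m) = p0 m ∧ (sg m).1 (p2 m) = p3 m ∧
    (sg m).1 (p3 m) = p2 m ∧
    (pi0 m).1 (p0 m) = p2 m ∧ (pi0 m).1 (p1 m) = p3 m ∧ (pi0 m).1 (p2 m) = p0 m ∧
    (pi0 m).1 (p3 m) = p1 m ∧
    (tau m).1 (p0 m) = p0 m ∧ (tau m).1 (p1 m) = p2 m ∧ (tau m).1 (p2 m) = p3 m ∧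
    (tau m).1 (p3 m) = p1 m ∧ c012 m * c012 m * c012 m = 1 := by
  refine ⟨?_, ?_, ?_, ?_, ?_, ?_, ?_, ?_, ?_, ?_, ?_, ?_, ?_, ?_, ?_, WPV_c012_cube m⟩
  -- c012 = swap p0 p1 * swap p1 p2
  · change (Equiv.swap (p0 m) (p1 m) * Equiv.swap (p1 m) (p2 m)) (p0 m) = p1 m
    rw [WPV_swap2, Equiv.swap_apply_of_ne_of_ne (p0_ne_p1 m) (p0_ne_p2 m), Equiv.swap_apply_left]
  · change (Equiv.swap (p0 m) (p1 m) * Equiv.swap (p1 m) (p2 m)) (p1 m) = p2 m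
    rw [WPV_swap2, Equiv.swap_apply_left,
      Equiv.swap_apply_of_ne_of_ne (WPV_p2_ne_p0 m) (WPV_p2_ne_p1 m)]
  · change (Equiv.swap (p0 m) (p1 m) * Equiv.swap (p1 m) (p2 m)) (p2 m) = p0 m
    rw [WPV_swap2, Equiv.swap_apply_right, Equiv.swap_apply_right]
  -- sg = swap p0 p1 * swap p2 p3
  · change (Equiv.swap (p0 m) (p1 m) * Equiv.swap (p2 m) (p3 m)) (p0 m) = p1 m
    rw [WPV_swap2, Equiv.swap_apply_of_ne_of_ne (p0_ne_p2 m) (p0_ne_p3 m), Equiv.swap_apply_left]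
  · change (Equiv.swap (p0 m) (p1 m) * Equiv.swap (p2 m) (p3 m)) (p1 m) = p0 m
    rw [WPV_swap2, Equiv.swap_apply_of_ne_of_ne (p1_ne_p2 m) (p1_ne_p3 m), Equiv.swap_apply_right]
  · change (Equiv.swap (p0 m) (p1 m) * Equiv.swap (p2 m) (p3 m)) (p2 m) = p3 m
    rw [WPV_swap2, Equiv.swap_apply_left,
      Equiv.swap_apply_of_ne_of_ne (WPV_p3_ne_p0 m) (WPV_p3_ne_p1 m)]
  · change (Equiv.swap (p0 m) (p1 m) * Equiv.swap (p2 m) (p3 m)) (p3 m) = p2 m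
    rw [WPV_swap2, Equiv.swap_apply_right,
      Equiv.swap_apply_of_ne_of_ne (WPV_p2_ne_p0 m) (WPV_p2_ne_p1 m)]
  -- pi0 = swap p0 p2 * swap p1 p3
  · change (Equiv.swap (p0 m) (p2 m) * Equiv.swap (p1 m) (p3 m)) (p0 m) = p2 m
    rw [WPV_swap2, Equiv.swap_apply_of_ne_of_ne (p0_ne_p1 m) (p0_ne_p3 m), Equiv.swap_apply_left]
  · change (Equiv.swap (p0 m) (p2 m) * Equiv.swap (p1 m) (p3 m)) (p1 m) = p3 m
    rw [WPV_swap2, Equiv.swap_apply_left,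
      Equiv.swap_apply_of_ne_of_ne (WPV_p3_ne_p0 m) (WPV_p3_ne_p2 m)]
  · change (Equiv.swap (p0 m) (p2 m) * Equiv.swap (p1 m) (p3 m)) (p2 m) = p0 m
    rw [WPV_swap2, Equiv.swap_apply_of_ne_of_ne (WPV_p2_ne_p1 m) (p2_ne_p3 m),
      Equiv.swap_apply_right]
  · change (Equiv.swap (p0 m) (p2 m) * Equiv.swap (p1 m) (p3 m)) (p3 m) = p1 m
    rw [WPV_swap2, Equiv.swap_apply_right,
      Equiv.swap_apply_of_ne_of_ne (WPV_p1_ne_p0 m) (p1_ne_p2 m)]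
  -- tau = swap p1 p2 * swap p2 p3
  · change (Equiv.swap (p1 m) (p2 m) * Equiv.swap (p2 m) (p3 m)) (p0 m) = p0 m
    rw [WPV_swap2, Equiv.swap_apply_of_ne_of_ne (p0_ne_p2 m) (p0_ne_p3 m),
      Equiv.swap_apply_of_ne_of_ne (p0_ne_p1 m) (p0_ne_p2 m)]
  · change (Equiv.swap (p1 m) (p2 m) * Equiv.swap (p2 m) (p3 m)) (p1 m) = p2 m
    rw [WPV_swap2, Equiv.swap_apply_of_ne_of_ne (p1_ne_p2 m) (p1_ne_p3 m), Equiv.swap_apply_left]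
  · change (Equiv.swap (p1 m) (p2 m) * Equiv.swap (p2 m) (p3 m)) (p2 m) = p3 m
    rw [WPV_swap2, Equiv.swap_apply_left,
      Equiv.swap_apply_of_ne_of_ne (WPV_p3_ne_p1 m) (WPV_p3_ne_p2 m)]
  · change (Equiv.swap (p1 m) (p2 m) * Equiv.swap (p2 m) (p3 m)) (p3 m) = p1 m
    rw [WPV_swap2, Equiv.swap_apply_right, Equiv.swap_apply_right]

end Cfsg.Agent.Helper15.PSp
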