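import Mathlib
import Cfsg.Agent.Helper15.PSp.Defs2
import Cfsg.Agent.Helper1.SLNP.MainA
import Cfsg.Agent.Helper62.StCG2

/-!
# S2292 W-part piece (WSW) -- see `tools/helper1_pspw/README.md` and board WANTED of helper1.
-/

set_option autoImplicit false

namespace Cfsg.Agent.Helper15.PSp

open Matrix Cfsg.Agent.Helper96.StC Cfsg.Agent.Helper96.StN Cfsg.Agent.Helper29.StCM
  Cfsg.Agent.Helper96.StemSLTwo Cfsg.Agent.Helper96.StPres Cfsg.Agent.Helper9.Sp4P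
  Cfsg.Agent.Helper1.SL3P Cfsg.Agent.Helper1.SLNP

universe u v

variable {K : Type u} [Field K] {D : Type v} [Group D] {m : ℕ}

theorem fam_swap {a4 : Sp4 K →* D} {ρ : Alt m →* D}
    (hpk : ∀ i j : Fin (m + 4), i ≠ j →
      (pick m i j).1 (p0 m) = i ∧ (pick m i j).1 (p1 m) = j)
    (hsg : (sg m).1 (p0 m) = p1 m ∧ (sg m).1 (p1 m) = p0 m)
    (haf : ∀ (i j : Fin (m + 4)), i ≠ j → ∀ π : Alt m, π.1 (p0 m) = i → π.1 (p1 m) = j →
      ∀ g : Sp4 K, AF a4 ρ i j g = ρ π * a4 g * (ρ π)⁻¹)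
    (hfl : ∀ g : Sp4 K, ρ (sg m) * a4 g * (ρ (sg m))⁻¹ = a4 (nS K * g * (nS K)⁻¹)) :
    ∀ i j : Fin (m + 4), i ≠ j → ∀ g : Sp4 K,
      AF a4 ρ j i g = AF a4 ρ i j (nS K * g * (nS K)⁻¹) := by
  intro i j hij g
  have h0 : (pick m i j * sg m).1 (p0 m) = j := by
    show ((pick m i j).1 * (sg m).1) (p0 m) = j
    rw [Equiv.Perm.mul_apply, hsg.1, (hpk i j hij).2]
  have h1 : (pick m i j * sg m).1 (p1 m) = i := by
    show ((pick m i j).1 * (sg m).1) (p1 m) = i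
    rw [Equiv.Perm.mul_apply, hsg.2, (hpk i j hij).1]
  rw [haf j i hij.symm (pick m i j * sg m) h0 h1 g, AF_apply, ← hfl g, map_mul, _root_.mul_inv_rev]
  simp only [mul_assoc]

end Cfsg.Agent.Helper15.PSp
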