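import Mathlib
import Cfsg.Agent.Helper15.PSp.Defs2
import Cfsg.Agent.Helper1.SLNP.MainA
import Cfsg.Agent.Helper62.StCG2

/-!
# S2292 W-part piece (WTA) -- see `tools/helper1_pspw/README.md` and board WANTED of helper1.
-/

set_option autoImplicit false

namespace Cfsg.Agent.Helper15.PSp

open Matrix Cfsg.Agent.Helper96.StC Cfsg.Agent.Helper96.StN Cfsg.Agent.Helper29.StCM
  Cfsg.Agent.Helper96.StemSLTwo Cfsg.Agent.Helper96.StPres Cfsg.Agent.Helper9.Sp4P
  Cfsg.Agent.Helper1.SL3P Cfsg.Agent.Helper1.SLNP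

universe u v

variable {K : Type u} [Field K] {D : Type v} [Group D] {m : ℕ}

theorem WTA_XN_eq {a4 : Sp4 K →* D} {ρ : Alt m →* D}
    (hid : ∀ t : K, eS4 K (uMat K t) = spT (Sum.inl 0) (Sum.inl 1) t)
    {i j : Fin (m + 4)} (hij : i ≠ j) (t : K) :
    AF a4 ρ i j (spT (Sum.inl 0) (Sum.inl 1) t) = XN (a4.comp (eS4 K)) ρ i j t := by
  rw [← hid t]
  unfold XN
  rw [if_neg hij]
  rfl

theorem fam_typeA {a4 : Sp4 K →* D} {ρ : Alt m →* D}
    (hid : ∀ t : K, eS4 K (uMat K t) = spT (Sum.inl 0) (Sum.inl 1) t)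
    (hX : StRel (XN (a4.comp (eS4 K)) ρ)) :
    StRel (fun (i j : Fin (m + 4)) (t : K) => AF a4 ρ i j (spT (Sum.inl 0) (Sum.inl 1) t)) := by
  refine ⟨?_, ?_, ?_⟩
  · intro i j hij t u
    simp only [WTA_XN_eq hid hij]
    exact hX.add i j hij t u
  · intro i j k l hij hkl hjk hil t u
    simp only [WTA_XN_eq hid hij, WTA_XN_eq hid hkl]
    exact hX.comm i j k l hij hkl hjk hil t u
  · intro i j l hij hjl hil t u
    simp only [WTA_XN_eq hid hij, WTA_XN_eq hid hjl, WTA_XN_eq hid hil]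
    exact hX.mul i j l hij hjl hil t u

end Cfsg.Agent.Helper15.PSp
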