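import Mathlib
import Cfsg.Agent.Helper15.PSp.Defs2
import Cfsg.Agent.Helper1.SLNP.MainA
import Cfsg.Agent.Helper62.StCG2
import Cfsg.Agent.Helper1.PSpW.P_WID1
import Cfsg.Agent.Helper1.PSpW.P_WID2
import Cfsg.Agent.Helper1.PSpW.P_WID3
import Cfsg.Agent.Helper1.PSpW.P_WID4
import Cfsg.Agent.Helper1.PSpW.P_WPK
import Cfsg.Agent.Helper1.PSpW.P_WPV
import Cfsg.Agent.Helper1.PSpW.P_WPT
import Cfsg.Agent.Helper1.PSpW.P_WP4
import Cfsg.Agent.Helper1.PSpW.P_WST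
import Cfsg.Agent.Helper1.PSpW.P_WFL
import Cfsg.Agent.Helper1.PSpW.P_WLG
import Cfsg.Agent.Helper1.PSpW.P_WDJ
import Cfsg.Agent.Helper1.PSpW.P_WGL
import Cfsg.Agent.Helper1.PSpW.P_WAF
import Cfsg.Agent.Helper1.PSpW.P_WAFL
import Cfsg.Agent.Helper1.PSpW.P_WSW
import Cfsg.Agent.Helper1.PSpW.P_WLO
import Cfsg.Agent.Helper1.PSpW.P_WDJF
import Cfsg.Agent.Helper1.PSpW.P_WDJL
import Cfsg.Agent.Helper1.PSpW.P_WTA
import Cfsg.Agent.Helper1.PSpW.P_WC1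
import Cfsg.Agent.Helper1.PSpW.P_WC2
import Cfsg.Agent.Helper1.PSpW.P_WCH
import Cfsg.Agent.Helper1.PSpW.P_WCB
import Cfsg.Agent.Helper1.PSpW.P_WGN
import Cfsg.Agent.Helper1.PSpW.P_WG4

set_option autoImplicit false

namespace Cfsg.Agent.Helper15.PSp

open Matrix Cfsg.Agent.Helper96.StC Cfsg.Agent.Helper96.StN Cfsg.Agent.Helper29.StCM
  Cfsg.Agent.Helper96.StemSLTwo Cfsg.Agent.Helper96.StPres Cfsg.Agent.Helper9.Sp4P
  Cfsg.Agent.Helper1.SL3P Cfsg.Agent.Helper1.SLNP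

universe u v

variable {K : Type u} [Field K] {D : Type v} [Group D] {m : ℕ}

/-! ## identities in `Sp₄(K)` -/

/-! ## permutations -/

/-! ## from generators to all elements -/

/-! ## the family `AF a4 ρ` -/

/-! ## the cross relations -/

/-! ## generation -/

/-! ## assembly -/

theorem glue4_of_gen [Fintype K] {a4 : Sp4 K →* D} {ρ : Alt m →* D} {z : Kˣ} {l1 l2 : Sp4 K}
    {s1 s2 : Alt m} (hz : ∀ s : Kˣ, ∃ n : ℕ, z ^ n = s)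
    (hl : Subgroup.closure ({l1, l2} : Set (Sp4 K)) = ⊤)
    (hs : ∀ π : Alt m, π.1 (p0 m) = p0 m → π.1 (p1 m) = p1 m →
      π ∈ Subgroup.closure ({s1, s2} : Set (Alt m)))
    (hG : GlueGen4 a4 ρ z l1 l2 s1 s2) : Glue4 a4 ρ :=
  ⟨glue4_st hl hs hG, glue4_fl hl hG,
    glue4_lg (closure_u_h_w hz) (glue4_st hl hs hG) (stab0_le m) hG, glue4_dj hl hG⟩

theorem AF_eq_of_glue4 {a4 : Sp4 K →* D} {ρ : Alt m →* D} (hG : Glue4 a4 ρ)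
    (i j : Fin (m + 4)) (hij : i ≠ j) (π : Alt m) (h0 : π.1 (p0 m) = i) (h1 : π.1 (p1 m) = j)
    (g : Sp4 K) : AF a4 ρ i j g = ρ π * a4 g * (ρ π)⁻¹ :=
  AF_eq (pick_spec m) hG.st i j hij π h0 h1 g

theorem fam_of_glue4 {a4 : Sp4 K →* D} {ρ : Alt m →* D} (hG : Glue4 a4 ρ)
    (h3 : StRel (X3 (a4.comp (eS4 K)) (ρ (c012 m)))) : Fam (AF a4 ρ) := by
  obtain ⟨c0, c1, c2, s0, s1, s2, s3, q0, q1, q2, q3, t0, t1, t2, t3, hc3⟩ := perm_values m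
  have hsw := fam_swap (pick_spec m) ⟨s0, s1⟩ (AF_eq_of_glue4 hG) hG.fl
  have hlo := fam_long (a4 := a4) (ρ := ρ) (pick_spec m)
    (fun i j hij π h0 g => AF_long_eq (pick_spec m) hG.lg i j hij π h0 g)
  have hdj := fam_dj (exists_alt_four m) ⟨q0, q1⟩ (AF_eq_of_glue4 hG) hsw hG.dj
  exact ⟨hsw, hlo, hdj, fam_djl (exists_fourth m) hlo hdj,
    fam_typeA eS4_uMat (stRel_XN_of_glue (glue_of_glue4 nS_eS4 hG) h3)⟩

theorem crossB_of_glue4 {a4 : Sp4 K →* D} {ρ : Alt m →* D} (z : Kˣ) (hG : Glue4 a4 ρ)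
    (hC : Cross2 (a4.comp (eS4 K)) (ρ (c012 m))) :
    CrossB (a4.comp (eS4 K)) (ρ (c012 m)) z := by
  obtain ⟨c0, c1, c2, s0, s1, s2, s3, q0, q1, q2, q3, t0, t1, t2, t3, hc3⟩ := perm_values m
  exact crossB_of_cross2 z hc3 (i1_act z)
    (conj_H1 z (eS4_dMat z) (conj_c_i0 ⟨c0, s0⟩ hG) (conj_c_i1 ⟨c1, s0, q0⟩ hG) hG.dj) hC

theorem stRel_X3_of_cross2 [Fintype K] {a4 : Sp4 K →* D} {ρ : Alt m →* D} {z : Kˣ}
    (hz : ∀ s : Kˣ, ∃ n : ℕ, z ^ n = s) (hG : Glue4 a4 ρ)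
    (hC : Cross2 (a4.comp (eS4 K)) (ρ (c012 m)))
    (hE : Fintype.card K = 4 → CrossE (a4.comp (eS4 K)) (ρ (c012 m)) z) :
    StRel (X3 (a4.comp (eS4 K)) (ρ (c012 m))) := by
  by_cases h4 : Fintype.card K = 4
  · exact stRel_of_crossB_four hz h4 (crossB_of_glue4 z hG hC) (hE h4)
  · exact stRel_of_crossB hz h4 (crossB_of_glue4 z hG hC)

theorem gen_XC {a4 : Sp4 K →* D} {ρ : Alt m →* D} (hG : Glue4 a4 ρ)
    (hC : Cross2 (a4.comp (eS4 K)) (ρ (c012 m))) (o : Fin (m + 4) → Fin (m + 4))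
    (hkey : ∀ (i j : Fin (m + 4)), i ≠ j → ∀ p q : Fin 2 ⊕ Fin 2, p ≠ q → ∀ t : K,
      XC (AF a4 ρ) o (em i j p) (em i j q) t = AF a4 ρ i j (spT p q t))
    (htop : a4.range ⊔ ρ.range = ⊤) :
    Subgroup.closure {g | ∃ p q, p ≠ q ∧ ∃ t, g = XC (AF a4 ρ) o p q t} = ⊤ := by
  obtain ⟨c0, c1, c2, s0, s1, s2, s3, q0, q1, q2, q3, t0, t1, t2, t3, hc3⟩ := perm_values m
  have hGl : Glue (a4.comp (eS4 K)) ρ := glue_of_glue4 nS_eS4 hG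
  have hc3' : ρ (c012 m) * ρ (c012 m) * ρ (c012 m) = 1 := by
    rw [← map_mul, ← map_mul, hc3, map_one]
  refine gen_XC_aux o eS4_uMat Cfsg.Agent.Helper62.StCG.spT_closure ?_ hkey
    (ranges_le_closure_XN (hxconj_of_glue hGl) (hx3n_of_glue hGl) (alt_le_closure_conj m) hc3'
      hC.cw) htop
  intro g
  rw [AF_eq_of_glue4 hG (p0 m) (p1 m) (p0_ne_p1 m) 1 rfl rfl g, map_one, one_mul, inv_one, mul_one]

end Cfsg.Agent.Helper15.PSp
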