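import Mathlib
import Cfsg.Agent.Helper15.PSp.Defs2
import Cfsg.Agent.Helper1.SLNP.MainA
import Cfsg.Agent.Helper62.StCG2

/-!
# S2292 W-part piece (WC1) -- see `tools/helper1_pspw/README.md` and board WANTED of helper1.
-/

set_option autoImplicit false

namespace Cfsg.Agent.Helper15.PSp

open Matrix Cfsg.Agent.Helper96.StC Cfsg.Agent.Helper96.StN Cfsg.Agent.Helper29.StCM
  Cfsg.Agent.Helper96.StemSLTwo Cfsg.Agent.Helper96.StPres Cfsg.Agent.Helper9.Sp4P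
  Cfsg.Agent.Helper1.SL3P Cfsg.Agent.Helper1.SLNP

universe u v

variable {K : Type u} [Field K] {D : Type v} [Group D] {m : ℕ}

theorem conj_c_i0 {a4 : Sp4 K →* D} {ρ : Alt m →* D}
    (hv : (c012 m).1 (p0 m) = p1 m ∧ (sg m).1 (p0 m) = p1 m)
    (hG : Glue4 a4 ρ) (g : SL2 K) :
    ρ (c012 m) * a4 (i0 K g) * (ρ (c012 m))⁻¹ = a4 (nS K * i0 K g * (nS K)⁻¹) := by
  obtain ⟨hc0, hs0⟩ := hv
  have hfix : ((sg m)⁻¹ * c012 m).1 (p0 m) = p0 m := by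
    change ((sg m).1)⁻¹ ((c012 m).1 (p0 m)) = p0 m
    rw [hc0, Equiv.Perm.inv_eq_iff_eq, hs0]
  have hcomm := (hG.lg _ hfix g).eq
  have e : ρ (c012 m) = ρ (sg m) * ρ ((sg m)⁻¹ * c012 m) := by
    rw [← map_mul, mul_inv_cancel_left]
  rw [← hG.fl, e]
  calc ρ (sg m) * ρ ((sg m)⁻¹ * c012 m) * a4 (i0 K g) * (ρ (sg m) * ρ ((sg m)⁻¹ * c012 m))⁻¹
      = ρ (sg m) * (ρ ((sg m)⁻¹ * c012 m) * a4 (i0 K g)) * (ρ ((sg m)⁻¹ * c012 m))⁻¹ *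
        (ρ (sg m))⁻¹ := by group
    _ = ρ (sg m) * (a4 (i0 K g) * ρ ((sg m)⁻¹ * c012 m)) * (ρ ((sg m)⁻¹ * c012 m))⁻¹ *
        (ρ (sg m))⁻¹ := by rw [hcomm]
    _ = ρ (sg m) * a4 (i0 K g) * (ρ (sg m))⁻¹ := by group

end Cfsg.Agent.Helper15.PSp
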