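import Mathlib
import Cfsg.Agent.Helper15.PSp.Defs2
import Cfsg.Agent.Helper1.SLNP.MainA
import Cfsg.Agent.Helper62.StCG2

/-!
# S2292 W-part piece (WST) -- see `tools/helper1_pspw/README.md` and board WANTED of helper1.
-/

set_option autoImplicit false

namespace Cfsg.Agent.Helper15.PSp

open Matrix Cfsg.Agent.Helper96.StC Cfsg.Agent.Helper96.StN Cfsg.Agent.Helper29.StCM
  Cfsg.Agent.Helper96.StemSLTwo Cfsg.Agent.Helper96.StPres Cfsg.Agent.Helper9.Sp4P
  Cfsg.Agent.Helper1.SL3P Cfsg.Agent.Helper1.SLNP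

universe u v

variable {K : Type u} [Field K] {D : Type v} [Group D] {m : ℕ}

theorem WST_aux {G : Type*} [Group G] {l1 l2 : G}
    (hl : Subgroup.closure ({l1, l2} : Set G) = ⊤) (f : G →* D) (x : D)
    (h1 : Commute x (f l1)) (h2 : Commute x (f l2)) : ∀ g : G, Commute x (f g) := by
  intro g
  have hle : Subgroup.closure ({l1, l2} : Set G) ≤
      (Subgroup.centralizer ({x} : Set D)).comap f := by
    rw [Subgroup.closure_le]
    intro y hy
    rw [SetLike.mem_coe, Subgroup.mem_comap, Subgroup.mem_centralizer_singleton_iff]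
    rcases hy with rfl | rfl
    · exact h1.symm.eq
    · exact h2.symm.eq
  have hg : g ∈ (Subgroup.centralizer ({x} : Set D)).comap f := hle (hl ▸ Subgroup.mem_top g)
  rw [Subgroup.mem_comap, Subgroup.mem_centralizer_singleton_iff] at hg
  exact hg.symm

theorem glue4_st {a4 : Sp4 K →* D} {ρ : Alt m →* D} {z : Kˣ} {l1 l2 : Sp4 K} {s1 s2 : Alt m}
    (hl : Subgroup.closure ({l1, l2} : Set (Sp4 K)) = ⊤)
    (hs : ∀ π : Alt m, π.1 (p0 m) = p0 m → π.1 (p1 m) = p1 m →
      π ∈ Subgroup.closure ({s1, s2} : Set (Alt m)))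
    (hG : GlueGen4 a4 ρ z l1 l2 s1 s2) :
    ∀ π : Alt m, π.1 (p0 m) = p0 m → π.1 (p1 m) = p1 m → ∀ g : Sp4 K, Commute (ρ π) (a4 g) := by
  intro π h0 h1
  have key : ∀ π' : Alt m, π' ∈ Subgroup.closure ({s1, s2} : Set (Alt m)) →
      ∀ g : Sp4 K, Commute (ρ π') (a4 g) := by
    intro π' hπ'
    induction hπ' using Subgroup.closure_induction with
    | mem x hx =>
      rcases hx with rfl | rfl
      · exact WST_aux hl a4 _ hG.s1l1 hG.s1l2
      · exact WST_aux hl a4 _ hG.s2l1 hG.s2l2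
    | one => intro g; rw [map_one]; exact Commute.one_left _
    | mul x y _ _ hx hy => intro g; rw [map_mul]; exact (hx g).mul_left (hy g)
    | inv x _ hx => intro g; rw [map_inv]; exact (hx g).inv_left
  exact key π (hs π h0 h1)

end Cfsg.Agent.Helper15.PSp
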